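import Mathlib

universe u

open TensorProduct

namespace Groth.Agent.H5.Etale

variable {R : Type u} [CommRing R] (p : Ideal R) [p.IsPrime]

/-- The `R`-algebra map `S → κ(p)` attached to a prime `q` over `p` with trivial residue field
extension. -/
noncomputable def toKappa {S : Type u} [CommRing S] [Algebra R S] (q : Ideal S) [q.IsPrime]
    (hq : p = q.comap (algebraMap R S))
    (hκ : Function.Bijective (Ideal.ResidueField.map p q (algebraMap R S) hq)) :
    S →ₐ[R] p.ResidueField where
  __ := ((RingEquiv.ofBijective _ hκ).symm : q.ResidueField →+* p.ResidueField).comp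
    (algebraMap S q.ResidueField)
  commutes' r := by
    simp only [RingHom.toMonoidHom_eq_coe, OneHom.toFun_eq_coe, MonoidHom.toOneHom_coe,
      MonoidHom.coe_coe, RingHom.coe_comp, RingHom.coe_coe, Function.comp_apply]
    rw [RingEquiv.symm_apply_eq]
    simp

lemma toKappa_apply {S : Type u} [CommRing S] [Algebra R S] (q : Ideal S) [q.IsPrime]
    (hq : p = q.comap (algebraMap R S))
    (hκ : Function.Bijective (Ideal.ResidueField.map p q (algebraMap R S) hq)) (x : S) :
    Ideal.ResidueField.map p q (algebraMap R S) hq (toKappa p q hq hκ x) =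
      algebraMap S q.ResidueField x := by
  change Ideal.ResidueField.map p q (algebraMap R S) hq
    ((RingEquiv.ofBijective _ hκ).symm (algebraMap S q.ResidueField x)) = _
  exact (RingEquiv.ofBijective _ hκ).apply_symm_apply _

lemma ker_toKappa {S : Type u} [CommRing S] [Algebra R S] (q : Ideal S) [q.IsPrime]
    (hq : p = q.comap (algebraMap R S))
    (hκ : Function.Bijective (Ideal.ResidueField.map p q (algebraMap R S) hq)) :
    RingHom.ker (toKappa p q hq hκ).toRingHom = q := by
  ext x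
  rw [RingHom.mem_ker]
  change toKappa p q hq hκ x = 0 ↔ _
  rw [← (Ideal.ResidueField.map p q (algebraMap R S) hq).injective.eq_iff, map_zero,
    toKappa_apply, Ideal.algebraMap_residueField_eq_zero]

/-- Given an `R`-algebra map `ψ : S → κ(p)`, the kernel is a prime over `p` with trivial residue
field extension. -/
lemma ker_kappa_props {S : Type u} [CommRing S] [Algebra R S] (ψ : S →ₐ[R] p.ResidueField) :
    ∃ (_ : (RingHom.ker ψ.toRingHom).IsPrime)
      (hq : p = (RingHom.ker ψ.toRingHom).comap (algebraMap R S)),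
      Function.Bijective (Ideal.ResidueField.map p (RingHom.ker ψ.toRingHom) (algebraMap R S) hq) := by
  have hprime : (RingHom.ker ψ.toRingHom).IsPrime := RingHom.ker_isPrime _
  have hq : p = (RingHom.ker ψ.toRingHom).comap (algebraMap R S) := by
    ext x
    rw [Ideal.mem_comap, RingHom.mem_ker]
    change _ ↔ ψ (algebraMap R S x) = 0
    rw [ψ.commutes, Ideal.algebraMap_residueField_eq_zero]
  refine ⟨hprime, hq, (RingHom.injective _), ?_⟩
  let θ : (RingHom.ker ψ.toRingHom).ResidueField →+* p.ResidueField :=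
    Ideal.ResidueField.lift _ ψ.toRingHom le_rfl (by
      intro x hx
      simp only [Submonoid.mem_comap, IsUnit.mem_submonoid_iff]
      rw [isUnit_iff_ne_zero]
      exact fun h => hx (RingHom.mem_ker.mpr h))
  have hθ : θ.comp (Ideal.ResidueField.map p (RingHom.ker ψ.toRingHom) (algebraMap R S) hq) =
      RingHom.id _ := by
    apply Ideal.ResidueField.ringHom_ext
    ext r
    simp only [RingHom.coe_comp, Function.comp_apply, RingHom.id_apply]
    rw [Ideal.ResidueField.map_algebraMap]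
    simp only [θ]
    rw [Ideal.ResidueField.lift_algebraMap]
    exact ψ.commutes r
  intro y
  refine ⟨θ y, θ.injective ?_⟩
  exact congrArg (fun f => f (θ y)) hθ

theorem exists_common {S₁ : Type u} [CommRing S₁] [Algebra R S₁] [Algebra.Etale R S₁]
    (q₁ : Ideal S₁) [q₁.IsPrime] (hq₁ : p = q₁.comap (algebraMap R S₁))
    (hq₁κ : Function.Bijective (Ideal.ResidueField.map p q₁ (algebraMap R S₁) hq₁))
    {S₂ : Type u} [CommRing S₂] [Algebra R S₂] [Algebra.Etale R S₂] (q₂ : Ideal S₂) [q₂.IsPrime]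
    (hq₂ : p = q₂.comap (algebraMap R S₂))
    (hq₂κ : Function.Bijective (Ideal.ResidueField.map p q₂ (algebraMap R S₂) hq₂)) :
    ∃ (S₃ : Type u) (_ : CommRing S₃) (_ : Algebra R S₃) (_ : Algebra.Etale R S₃) (q₃ : Ideal S₃)
      (_ : q₃.IsPrime) (hq₃ : p = q₃.comap (algebraMap R S₃)),
      Function.Bijective (Ideal.ResidueField.map p q₃ (algebraMap R S₃) hq₃) ∧
        ∃ (φ₁ : S₁ →ₐ[R] S₃) (φ₂ : S₂ →ₐ[R] S₃),
          q₃.comap φ₁.toRingHom = q₁ ∧ q₃.comap φ₂.toRingHom = q₂ := by
  let g₁ := toKappa p q₁ hq₁ hq₁κ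
  let g₂ := toKappa p q₂ hq₂ hq₂κ
  let ψ : S₁ ⊗[R] S₂ →ₐ[R] p.ResidueField :=
    Algebra.TensorProduct.lift g₁ g₂ (fun _ _ => Commute.all _ _)
  have het : Algebra.Etale R (S₁ ⊗[R] S₂) := Algebra.Etale.comp R S₁ (S₁ ⊗[R] S₂)
  obtain ⟨h1, h2, h3⟩ := ker_kappa_props p ψ
  refine ⟨S₁ ⊗[R] S₂, inferInstance, inferInstance, het, RingHom.ker ψ.toRingHom, h1, h2, h3,
    Algebra.TensorProduct.includeLeft, Algebra.TensorProduct.includeRight, ?_, ?_⟩
  · rw [← ker_toKappa p q₁ hq₁ hq₁κ]
    ext x
    simp only [Ideal.mem_comap, RingHom.mem_ker]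
    change ψ (x ⊗ₜ 1) = 0 ↔ g₁ x = 0
    simp [ψ]
  · rw [← ker_toKappa p q₂ hq₂ hq₂κ]
    ext x
    simp only [Ideal.mem_comap, RingHom.mem_ker]
    change ψ (1 ⊗ₜ x) = 0 ↔ g₂ x = 0
    simp [ψ]

end Groth.Agent.H5.Etale

namespace Groth.Agent.H5.Etale

variable {R : Type u} [CommRing R] (p : Ideal R) [p.IsPrime]

/-- Two `R`-algebra maps `S → κ(p)` with the same kernel `q`, where `κ(p) → κ(q)` is bijective,
agree. -/
lemma algHom_kappa_ext {S : Type u} [CommRing S] [Algebra R S] (q : Ideal S) [q.IsPrime]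
    (hq : p = q.comap (algebraMap R S))
    (hκ : Function.Bijective (Ideal.ResidueField.map p q (algebraMap R S) hq))
    (f g : S →ₐ[R] p.ResidueField) (hf : RingHom.ker f.toRingHom = q)
    (hg : RingHom.ker g.toRingHom = q) : f = g := by
  have key : ∀ (h : S →ₐ[R] p.ResidueField) (hh : RingHom.ker h.toRingHom = q) (x : S),
      Ideal.ResidueField.map p q (algebraMap R S) hq (h x) = algebraMap S q.ResidueField x := by
    intro h hh x
    let θ : q.ResidueField →+* p.ResidueField :=
      Ideal.ResidueField.lift q h.toRingHom hh.ge (by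
        intro y hy
        simp only [Submonoid.mem_comap, IsUnit.mem_submonoid_iff]
        rw [isUnit_iff_ne_zero]
        intro h0
        apply hy
        rw [← hh]
        exact RingHom.mem_ker.mpr h0)
    have hθ : θ.comp (Ideal.ResidueField.map p q (algebraMap R S) hq) = RingHom.id _ := by
      apply Ideal.ResidueField.ringHom_ext
      ext r
      simp only [RingHom.coe_comp, Function.comp_apply, RingHom.id_apply]
      rw [Ideal.ResidueField.map_algebraMap]
      simp only [θ]
      rw [Ideal.ResidueField.lift_algebraMap]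
      exact h.commutes r
    have hx : h x = θ (algebraMap S q.ResidueField x) := by
      simp only [θ]
      rw [Ideal.ResidueField.lift_algebraMap]
      rfl
    obtain ⟨z, hz⟩ := hκ.2 (algebraMap S q.ResidueField x)
    rw [hx, ← hz]
    congr 1
    exact congrArg (fun F => F z) hθ
  ext x
  apply (Ideal.ResidueField.map p q (algebraMap R S) hq).injective
  rw [key f hf x, key g hg x]

theorem exists_coeq {S₁ : Type u} [CommRing S₁] [Algebra R S₁] [Algebra.Etale R S₁]
    (q₁ : Ideal S₁) [q₁.IsPrime] (hq₁ : p = q₁.comap (algebraMap R S₁))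
    (hq₁κ : Function.Bijective (Ideal.ResidueField.map p q₁ (algebraMap R S₁) hq₁))
    {S₂ : Type u} [CommRing S₂] [Algebra R S₂] [Algebra.Etale R S₂] (q₂ : Ideal S₂) [q₂.IsPrime]
    (hq₂ : p = q₂.comap (algebraMap R S₂))
    (hq₂κ : Function.Bijective (Ideal.ResidueField.map p q₂ (algebraMap R S₂) hq₂))
    (φ ψ : S₁ →ₐ[R] S₂) (hφ : q₂.comap φ.toRingHom = q₁) (hψ : q₂.comap ψ.toRingHom = q₁) :
    ∃ (S₃ : Type u) (_ : CommRing S₃) (_ : Algebra R S₃) (_ : Algebra.Etale R S₃) (q₃ : Ideal S₃)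
      (_ : q₃.IsPrime) (hq₃ : p = q₃.comap (algebraMap R S₃)),
      Function.Bijective (Ideal.ResidueField.map p q₃ (algebraMap R S₃) hq₃) ∧
        ∃ χ : S₂ →ₐ[R] S₃, q₃.comap χ.toRingHom = q₂ ∧ χ.comp φ = χ.comp ψ := by
  let g₂ := toKappa p q₂ hq₂ hq₂κ
  have hker : RingHom.ker g₂.toRingHom = q₂ := ker_toKappa p q₂ hq₂ hq₂κ
  have hcomp : g₂.comp φ = g₂.comp ψ := by
    apply algHom_kappa_ext p q₁ hq₁ hq₁κ
    · rw [← hφ, ← hker]; rfl
    · rw [← hψ, ← hker]; rfl
  obtain ⟨e, he, hsp⟩ : ∃ e, IsIdempotentElem e ∧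
      KaehlerDifferential.ideal R S₁ = Ideal.span {e} :=
    (Ideal.isIdempotentElem_iff_of_fg _ (KaehlerDifferential.ideal_fg R S₁)).mp <|
      (Ideal.cotangent_subsingleton_iff _).mp <| inferInstanceAs <| Subsingleton Ω[S₁⁄R]
  let Φ : S₁ ⊗[R] S₁ →ₐ[R] S₂ := Algebra.TensorProduct.lift φ ψ (fun _ _ => Commute.all _ _)
  let e' : S₂ := Φ e
  have he' : IsIdempotentElem e' := he.map Φ
  -- `g₂ ∘ Φ` kills the diagonal ideal
  have hI : ∀ z ∈ KaehlerDifferential.ideal R S₁, g₂ (Φ z) = 0 := by
    intro z hz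
    rw [← KaehlerDifferential.span_range_eq_ideal] at hz
    induction hz using Submodule.span_induction with
    | mem x hx =>
      obtain ⟨s, rfl⟩ := hx
      have := congrArg (fun F => F s) hcomp
      simp only [AlgHom.comp_apply] at this
      simp [Φ, this]
    | zero => simp
    | add x y _ _ hx hy => rw [map_add, map_add, hx, hy, add_zero]
    | smul a x _ hx => rw [smul_eq_mul, map_mul, map_mul, hx, mul_zero]
  have he0 : g₂ e' = 0 := hI e (hsp ▸ Ideal.subset_span rfl)
  have hunit : IsUnit (g₂ (1 - e')) := by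
    rw [map_sub, map_one, he0, sub_zero]
    exact isUnit_one
  let ψ₃ : Localization.Away (1 - e') →ₐ[R] p.ResidueField :=
    IsLocalization.Away.liftAlgHom (1 - e') (f := g₂) hunit
  obtain ⟨h1, h2, h3⟩ := ker_kappa_props p ψ₃
  let χ : S₂ →ₐ[R] Localization.Away (1 - e') := IsScalarTower.toAlgHom R S₂ _
  have hχe : χ e' = 0 := by
    have hu : IsUnit (χ (1 - e')) := IsLocalization.Away.algebraMap_isUnit (1 - e')
    have : χ e' * χ (1 - e') = 0 := by
      rw [← map_mul, mul_sub, mul_one, he'.eq, sub_self, map_zero]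
    exact (hu.mul_left_eq_zero).mp this
  refine ⟨Localization.Away (1 - e'), inferInstance, inferInstance, inferInstance,
    RingHom.ker ψ₃.toRingHom, h1, h2, h3, χ, ?_, ?_⟩
  · rw [← hker]
    ext x
    simp only [Ideal.mem_comap, RingHom.mem_ker]
    change ψ₃ (algebraMap S₂ _ x) = 0 ↔ g₂ x = 0
    simp only [ψ₃, IsLocalization.Away.liftAlgHom_apply]
    rw [IsLocalization.Away.lift_eq]
    rfl
  · ext s
    simp only [AlgHom.comp_apply]
    rw [← sub_eq_zero, ← map_sub]
    have hmem : (s ⊗ₜ[R] (1 : S₁) - (1 : S₁) ⊗ₜ[R] s) ∈ KaehlerDifferential.ideal R S₁ := by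
      have := KaehlerDifferential.one_smul_sub_smul_one_mem_ideal R s
      rw [← neg_sub]
      exact neg_mem this
    rw [hsp, Ideal.mem_span_singleton'] at hmem
    obtain ⟨a, ha⟩ := hmem
    have : φ s - ψ s = Φ a * e' := by
      rw [← map_mul, ha]
      simp [Φ]
    rw [this, map_mul, hχe, mul_zero]

end Groth.Agent.H5.Etale
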